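import Cfsg.Agent.H944.TorAnyChev
import Cfsg.Agent.H944.RootVals
import Cfsg.Agent.Nodes.KindF

/-!
# Toral conjugacy along an arbitrary homomorphism into a Chevalley group over an algebraic closure (helper925)

`conj_TT` : `φ : S →* D.group k`, `x` of finite order prime to `p` : `φ x` is conjugate to an element of the torus.
-/

set_option autoImplicit false

namespace Cfsg.Agent.H925.TW

open Cfsg Cfsg.Lie Cfsg.Agent.Nodes.RGDChev Cfsg.Agent.KFacts.RgdChevCoord

universe u v

variable {D : ChevalleyDatum} {l : ℕ} {M : CoxeterMatrix (Fin l)} (hp : IsType D l M)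
  {F : Type v} [Field F] [Finite F] {p : ℕ} [Fact p.Prime] [CharP F p]

include hp

/-- `φ x = g t g⁻¹`, `t ∈ TT` -/
theorem conj_TT {S : Type u} [Group S] (φ : S →* ↥(D.group (AlgebraicClosure F))) (x : S) (h0 : orderOf x ≠ 0)
    (hx : (orderOf x).Coprime p) :
    ∃ g t : ↥(D.group (AlgebraicClosure F)), t ∈ TT D (AlgebraicClosure F) ∧ φ x = g * t * g⁻¹ := by
  have hck : CharP (AlgebraicClosure F) p :=
    charP_of_injective_algebraMap (algebraMap F (AlgebraicClosure F)).injective p
  let _ := Fintype.ofFinite F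
  obtain ⟨g, hg⟩ := H944.TorAnyChev.exists_conj_mem_TT hp p (H944.RootVals.hAlg_closure p F) (x := φ x)
    h0 hx (by rw [← map_pow, pow_orderOf_eq_one, map_one])
  exact ⟨g⁻¹, g * φ x * g⁻¹, hg, by group⟩

omit hp in
/-- the case of `F4`, `p = 2` -/
theorem conj_TT_F4 {F : Type v} [Field F] [Finite F] [CharP F 2] {S : Type u} [Group S] [Finite S]
    (φ : S →* ↥(chevF4.group (AlgebraicClosure F))) (x : S) (hx : Odd (orderOf x)) :
    ∃ g t : ↥(chevF4.group (AlgebraicClosure F)), t ∈ TT chevF4 (AlgebraicClosure F) ∧ φ x = g * t * g⁻¹ := by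
  have : Fact (Nat.Prime 2) := ⟨Nat.prime_two⟩
  exact conj_TT (p := 2) Cfsg.Agent.Nodes.KindF.isType φ x (orderOf_pos x).ne' (Nat.coprime_two_right.2 hx)

end Cfsg.Agent.H925.TW
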